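import Cfsg.Agent.Lib.Helper17.E6I.Defs

set_option autoImplicit false

namespace Cfsg.Agent.Lib.Helper65.E6I

open Cfsg.Agent.Lib.Helper17.E6I

variable {G : Type*} [Group G] {F : Type*} [Field F] (R : RS G F)

theorem A1_x_zero (r : ℕ) : R.x r 0 = 1 := by
  have h := R.x_add r 0 0
  rw [add_zero] at h
  exact mul_eq_left.mp h

theorem A1_x_inv (r : ℕ) (t : F) : (R.x r t)⁻¹ = R.x r (-t) := by
  apply inv_eq_of_mul_eq_one_right
  rw [R.x_add, add_neg_cancel, A1_x_zero]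

theorem A1_x_mem {act : ℕ → Prop} {r k : ℕ} (hr : act r) (hk : k ≤ r) (t : F) :
    R.x r t ∈ V R act k :=
  Subgroup.subset_closure ⟨r, t, hr, hk, rfl⟩

/-- [A1] -/
theorem V_normal {act : ℕ → Prop} (h : AddClosed R act) {s : ℕ} (hs : act s) (t : F) {k : ℕ} {y : G}
    (hy : y ∈ V R act k) : R.x s t * y * (R.x s t)⁻¹ ∈ V R act k := by
  unfold V at hy
  induction hy using Subgroup.closure_induction with
  | mem y hy =>
    obtain ⟨r, e, hr, hk, rfl⟩ := hy
    obtain ⟨hs1, hs2⟩ := h.bd s hs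
    obtain ⟨hr1, hr2⟩ := h.bd r hr
    rcases hadd : R.add s r with _ | j
    · rw [R.comm_none s r hs1 hs2 hr1 hr2 hadd t e, mul_inv_cancel_right]
      exact A1_x_mem R hr hk e
    · rw [R.conj_some s r j hs1 hs2 hr1 hr2 hadd t e]
      have hj := R.add_lt s r j hadd
      exact (V R act k).mul_mem (A1_x_mem R hr hk e)
        (A1_x_mem R (h.add s r j hs hr hadd) (by omega) _)
  | one => simp
  | mul y1 y2 _ _ ih1 ih2 =>
    have : R.x s t * (y1 * y2) * (R.x s t)⁻¹
        = (R.x s t * y1 * (R.x s t)⁻¹) * (R.x s t * y2 * (R.x s t)⁻¹) := by group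
    rw [this]
    exact (V R act k).mul_mem ih1 ih2
  | inv y _ ih =>
    have : R.x s t * y⁻¹ * (R.x s t)⁻¹ = (R.x s t * y * (R.x s t)⁻¹)⁻¹ := by group
    rw [this]
    exact (V R act k).inv_mem ih

theorem A1_both {act : ℕ → Prop} (h : AddClosed R act) {k k' : ℕ} {g : G}
    (hg : g ∈ V R act k') :
    ∀ y ∈ V R act k, g * y * g⁻¹ ∈ V R act k ∧ g⁻¹ * y * g ∈ V R act k := by
  unfold V at hg
  induction hg using Subgroup.closure_induction with
  | mem g hg =>
    obtain ⟨s, t, hs, -, rfl⟩ := hg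
    intro y hy
    refine ⟨V_normal R h hs t hy, ?_⟩
    have := V_normal R h hs (-t) hy
    rw [← A1_x_inv, inv_inv] at this
    exact this
  | one =>
    intro y hy
    simpa using hy
  | mul g1 g2 _ _ ih1 ih2 =>
    intro y hy
    constructor
    · have : g1 * g2 * y * (g1 * g2)⁻¹ = g1 * (g2 * y * g2⁻¹) * g1⁻¹ := by group
      rw [this]
      exact (ih1 _ (ih2 y hy).1).1
    · have : (g1 * g2)⁻¹ * y * (g1 * g2) = g2⁻¹ * (g1⁻¹ * y * g1) * g2 := by group
      rw [this]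
      exact (ih2 _ (ih1 y hy).2).2
  | inv g _ ih =>
    intro y hy
    rw [inv_inv]
    exact ⟨(ih y hy).2, (ih y hy).1⟩

/-- [A1'] -/
theorem V_normal' {act : ℕ → Prop} (h : AddClosed R act) {k k' : ℕ} {g y : G}
    (hg : g ∈ V R act k') (hy : y ∈ V R act k) : g * y * g⁻¹ ∈ V R act k :=
  (A1_both R h hg y hy).1

end Cfsg.Agent.Lib.Helper65.E6I
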