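import Cfsg.Agent.Lib.Helper17.E6I.Defs
import Cfsg.Agent.Lib.Helper65.E6I.A1

set_option autoImplicit false

namespace Cfsg.Agent.Lib.Helper65.E6I

open Cfsg.Agent.Lib.Helper17.E6I

variable {G : Type*} [Group G] {F : Type*} [Field F] (R : RS G F)

theorem A2_conj {act : ℕ → Prop} (h : AddClosed R act) {k : ℕ} {e : F} (he : ¬ act k → e = 0)
    {m : ℕ} {y : G} (hy : y ∈ V R act m) : R.x k e * y * (R.x k e)⁻¹ ∈ V R act m := by
  by_cases hk : act k
  · exact V_normal R h hk e hy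
  · rw [he hk, A1_x_zero]
    simpa using hy

/-- [A2] -/
theorem V_decomp {act : ℕ → Prop} (h : AddClosed R act) {k : ℕ} {y : G} (hy : y ∈ V R act k) :
    ∃ e : F, ∃ y' ∈ V R act (k + 1), (¬ act k → e = 0) ∧ y = R.x k e * y' := by
  unfold V at hy
  induction hy using Subgroup.closure_induction with
  | mem y hy =>
    obtain ⟨r, t, hr, hk, rfl⟩ := hy
    by_cases hrk : r = k
    · subst hrk
      exact ⟨t, 1, Subgroup.one_mem _, fun hn => absurd hr hn, by rw [mul_one]⟩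
    · exact ⟨0, R.x r t, A1_x_mem R hr (by omega) t, fun _ => rfl, by rw [A1_x_zero, one_mul]⟩
  | one => exact ⟨0, 1, Subgroup.one_mem _, fun _ => rfl, by rw [A1_x_zero, one_mul]⟩
  | mul y1 y2 _ _ ih1 ih2 =>
    obtain ⟨e1, y1', hy1', he1, rfl⟩ := ih1
    obtain ⟨e2, y2', hy2', he2, rfl⟩ := ih2
    have hne2 : ¬ act k → -e2 = 0 := fun hn => by rw [he2 hn, neg_zero]
    have hc := A2_conj R h hne2 hy1'
    rw [← A1_x_inv, inv_inv] at hc
    refine ⟨e1 + e2, ((R.x k e2)⁻¹ * y1' * R.x k e2) * y2', Subgroup.mul_mem _ hc hy2', ?_, ?_⟩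
    · intro hn
      rw [he1 hn, he2 hn, add_zero]
    · rw [← R.x_add]
      group
  | inv y _ ih =>
    obtain ⟨e, y', hy', he, rfl⟩ := ih
    have hc := A2_conj R h he (Subgroup.inv_mem _ hy')
    refine ⟨-e, R.x k e * y'⁻¹ * (R.x k e)⁻¹, hc, ?_, ?_⟩
    · intro hn
      rw [he hn, neg_zero]
    · rw [← A1_x_inv]
      group

end Cfsg.Agent.Lib.Helper65.E6I
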