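import Cfsg.Agent.Lib.Helper17.E6I.Defs
import Cfsg.Agent.Lib.Helper65.E6I.A1

set_option autoImplicit false

namespace Cfsg.Agent.Lib.Helper65.E6I

open Cfsg.Agent.Lib.Helper17.E6I

variable {G : Type*} [Group G] {F : Type*} [Field F] (R : RS G F)

theorem A7_V_mono {act act' : ℕ → Prop} {k k' : ℕ} (h : ∀ r, act r → k ≤ r → act' r ∧ k' ≤ r) :
    V R act k ≤ V R act' k' := by
  apply Subgroup.closure_mono
  rintro _ ⟨r, t, hr, hk, rfl⟩
  exact ⟨r, t, (h r hr hk).1, (h r hr hk).2, rfl⟩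

/-- the good roots above `r0` -/
def A7_act1 (act : ℕ → Prop) (r0 : ℕ) : ℕ → Prop := fun r => gd R act r0 r ∧ r0 < r

theorem A7_act1_closed {act : ℕ → Prop} (h : Closed R act) {r0 : ℕ} (hr0 : act r0) :
    AddClosed R (A7_act1 R act r0) where
  bd r hr := h.bd r hr.1.1
  add a b k ha hb hab := by
    have hk := R.add_lt a b k hab
    refine ⟨⟨h.add a b k ha.1.1 hb.1.1 hab, ?_⟩, by have := ha.2; omega⟩
    rintro ⟨d, hd, hdk⟩
    rcases R.good_add r0 a b k d ha.2 hb.2 hab hdk with ⟨d', hd'⟩ | ⟨d', hd'⟩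
    · exact ha.1.2 ⟨d', h.sub r0 d' a hr0 ha.1.1 hd', hd'⟩
    · exact hb.1.2 ⟨d', h.sub r0 d' b hr0 hb.1.1 hd', hd'⟩

/-- the good roots above `r0` and all the roots above `p` -/
def A7_actK (act : ℕ → Prop) (r0 p : ℕ) : ℕ → Prop :=
  fun r => act r ∧ r0 < r ∧ (gd R act r0 r ∨ p < r)

theorem A7_actK_closed {act : ℕ → Prop} (h : Closed R act) {r0 : ℕ} (hr0 : act r0) (p : ℕ) :
    AddClosed R (A7_actK R act r0 p) where
  bd r hr := h.bd r hr.1
  add a b k ha hb hab := by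
    have hk := R.add_lt a b k hab
    refine ⟨h.add a b k ha.1 hb.1 hab, by have := ha.2.1; omega, ?_⟩
    rcases ha.2.2 with hga | hpa
    · rcases hb.2.2 with hgb | hpb
      · left
        exact ((A7_act1_closed R h hr0).add a b k ⟨hga, ha.2.1⟩ ⟨hgb, hb.2.1⟩ hab).1
      · right; omega
    · right; omega

theorem A7_lp_mem {act : ℕ → Prop} {k : ℕ} (L : List ℕ) (e : ℕ → F)
    (hL : ∀ r ∈ L, e r = 0 ∨ (act r ∧ k ≤ r)) : lp R L e ∈ V R act k := by
  unfold Helper17.E6I.lp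
  apply Subgroup.list_prod_mem
  intro g hg
  rw [List.mem_map] at hg
  obtain ⟨r, hr, rfl⟩ := hg
  rcases hL r hr with h0 | ⟨h1, h2⟩
  · rw [h0, A1_x_zero]; exact Subgroup.one_mem _
  · exact A1_x_mem R h1 h2 _

theorem A7_lp_comm (a : G) (L : List ℕ) (e : ℕ → F)
    (hL : ∀ r ∈ L, a * R.x r (e r) = R.x r (e r) * a) : a * lp R L e = lp R L e * a := by
  induction L with
  | nil => simp [Helper17.E6I.lp]
  | cons r L ih =>
    have h1 := hL r (by simp)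
    have h2 := ih (fun s hs => hL s (by simp [hs]))
    unfold Helper17.E6I.lp at *
    simp only [List.map_cons, List.prod_cons]
    rw [← mul_assoc, h1, mul_assoc, h2, mul_assoc]

theorem A7_range_split {a r n : ℕ} (h1 : a ≤ r) (h2 : r < n) :
    List.range' a (n - a) = List.range' a (r - a) ++ r :: List.range' (r + 1) (n - (r + 1)) := by
  obtain ⟨u, rfl⟩ := Nat.exists_eq_add_of_le h1
  obtain ⟨v, rfl⟩ := Nat.exists_eq_add_of_lt h2
  have e1 : a + u + v + 1 - a = u + (v + 1) := by omega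
  have e2 : a + u - a = u := by omega
  have e3 : a + u + v + 1 - (a + u + 1) = v := by omega
  rw [e1, e2, e3, ← List.range'_append_1, List.range'_succ]

theorem A7_lp_append (L1 L2 : List ℕ) (r : ℕ) (e : ℕ → F) :
    lp R (L1 ++ r :: L2) e = lp R L1 e * (R.x r (e r) * lp R L2 e) := by
  simp [Helper17.E6I.lp, List.map_append, List.prod_append]

/-- [A7] with the pieces A3, A4, A5 as hypotheses -/
theorem step2_of [CharP F 2]
    (hA3 : ∀ {act : ℕ → Prop} (_ : AddClosed R act) {s : ℕ} (_ : act s) (t : F) {k m : ℕ}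
      (_ : ∀ r j, act r → k ≤ r → R.add s r = some j → m ≤ j) {y : G} (_ : y ∈ V R act k),
      R.x s t * y * (R.x s t)⁻¹ * y⁻¹ ∈ V R act m)
    (hA4 : ∀ {act : ℕ → Prop} (_ : AddClosed R act) {k : ℕ} (_ : k ≤ R.n) {y : G}
      (_ : y ∈ V R act k),
      ∃ e : ℕ → F, (∀ r, ¬ (act r ∧ k ≤ r) → e r = 0) ∧ y = lp R (List.range' k (R.n - k)) e)
    (hA5 : ∀ {act : ℕ → Prop} (_ : AddClosed R act) {p : ℕ} (_ : R.lo ≤ p) (_ : p < R.n)
      (_ : ¬ act p) {a : F} (_ : R.x p a ∈ V R act R.lo), a = 0)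
    {act : ℕ → Prop} (h : Closed R act) {r0 : ℕ} (hr0 : act r0) {c : F}
    (hc : c ≠ 0) {w : G} (hw : w ∈ V R (gd R act r0) (r0 + 1))
    (hsq : (R.x r0 c * w) * (R.x r0 c * w) = 1) : w ∈ V R (oc R act r0) (r0 + 1) := by
  classical
  obtain ⟨hlo, hn⟩ := h.bd r0 hr0
  have hcl1 := A7_act1_closed R h hr0
  have hw1 : w ∈ V R (A7_act1 R act r0) (r0 + 1) :=
    A7_V_mono R (fun r hr hk => ⟨⟨hr, by omega⟩, hk⟩) hw
  obtain ⟨e, he0, hwe⟩ := hA4 hcl1 (by omega : r0 + 1 ≤ R.n) hw1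
  have hfac : ∀ r, e r = 0 ∨ (A7_act1 R act r0 r ∧ r0 + 1 ≤ r) := by
    intro r
    by_cases hr : A7_act1 R act r0 r ∧ r0 + 1 ≤ r
    · exact Or.inr hr
    · exact Or.inl (he0 r hr)
  by_cases hcase : ∃ r, e r ≠ 0 ∧ R.add r0 r ≠ none
  · exfalso
    obtain ⟨r1, ⟨hd1, hadd1⟩, hmin⟩ : ∃ r1, (e r1 ≠ 0 ∧ R.add r0 r1 ≠ none) ∧
        ∀ r < r1, ¬ (e r ≠ 0 ∧ R.add r0 r ≠ none) :=
      ⟨Nat.find hcase, Nat.find_spec hcase, fun r hr => Nat.find_min hcase hr⟩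
    obtain ⟨p, hp⟩ := Option.ne_none_iff_exists'.mp hadd1
    have hr1 : A7_act1 R act r0 r1 ∧ r0 + 1 ≤ r1 := (hfac r1).resolve_left hd1
    obtain ⟨hr1lo, hr1n⟩ := hcl1.bd r1 hr1.1
    have hplt := R.add_lt r0 r1 p hp
    obtain ⟨x0, hx0⟩ : ∃ x0, x0 = R.x r0 c := ⟨_, rfl⟩
    obtain ⟨w1, hw1d⟩ : ∃ w1, w1 = lp R (List.range' (r0 + 1) (r1 - (r0 + 1))) e := ⟨_, rfl⟩
    obtain ⟨w2, hw2d⟩ : ∃ w2, w2 = lp R (List.range' (r1 + 1) (R.n - (r1 + 1))) e := ⟨_, rfl⟩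
    have hsplit : w = w1 * (R.x r1 (e r1) * w2) := by
      rw [hwe, A7_range_split hr1.2 hr1n, A7_lp_append, ← hw1d, ← hw2d]
    have hw1c : x0 * w1 = w1 * x0 := by
      rw [hw1d]
      apply A7_lp_comm
      intro r hr
      rw [List.mem_range'_1] at hr
      by_cases her : e r = 0
      · rw [her, A1_x_zero, mul_one, one_mul]
      · have hrr := (hfac r).resolve_left her
        have hnone : R.add r0 r = none := by
          by_contra hcon
          exact hmin r (by omega) ⟨her, hcon⟩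
        obtain ⟨hb1, hb2⟩ := hcl1.bd r hrr.1
        rw [hx0]
        exact R.comm_none r0 r hlo hn hb1 hb2 hnone c (e r)
    have hw1m : w1 ∈ V R (A7_act1 R act r0) (r0 + 1) := by
      rw [hw1d]
      exact A7_lp_mem R _ e (fun r _ => hfac r)
    have hw2m : w2 ∈ V R (A7_act1 R act r0) (r1 + 1) := by
      rw [hw2d]
      apply A7_lp_mem R _ e
      intro r hr
      rw [List.mem_range'_1] at hr
      rcases hfac r with h0 | h1
      · exact Or.inl h0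
      · exact Or.inr ⟨h1.1, hr.1⟩
    have hw2a : w2 ∈ V R act (r1 + 1) :=
      A7_V_mono R (fun r hr hk => ⟨hr.1.1, hk⟩) hw2m
    obtain ⟨z, hz⟩ : ∃ z, z = x0 * w2 * x0⁻¹ * w2⁻¹ := ⟨_, rfl⟩
    have hzm : z ∈ V R act (p + 1) := by
      rw [hz, hx0]
      refine hA3 h.toAddClosed hr0 c (k := r1 + 1) (m := p + 1) ?_ hw2a
      intro r j _ hrk hj
      have := R.add_mono r0 r1 r p j hp hj (by omega)
      omega
    have hconj : x0 * R.x r1 (e r1) * x0⁻¹ = R.x r1 (e r1) * R.x p (c * e r1) := by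
      rw [hx0]
      exact R.conj_some r0 r1 p hlo hn hr1lo hr1n hp c (e r1)
    have hx0inv : x0⁻¹ = x0 := by
      rw [hx0, A1_x_inv, CharTwo.neg_eq]
    rw [← hx0] at hsq
    have hE : w1 * (R.x r1 (e r1) * R.x p (c * e r1)) * (z * w2) = w⁻¹ := by
      calc w1 * (R.x r1 (e r1) * R.x p (c * e r1)) * (z * w2)
          = w1 * (x0 * R.x r1 (e r1) * x0⁻¹) * ((x0 * w2 * x0⁻¹ * w2⁻¹) * w2) := by
            rw [hconj, hz]
        _ = (w1 * x0) * (R.x r1 (e r1) * w2) * x0⁻¹ := by group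
        _ = (x0 * w1) * (R.x r1 (e r1) * w2) * x0⁻¹ := by rw [hw1c]
        _ = x0 * w * x0⁻¹ := by rw [hsplit]; group
        _ = w⁻¹ := by
            rw [hx0inv]
            exact eq_inv_of_mul_eq_one_left (by rw [← hsq]; group)
    have hxp : R.x p (c * e r1) = (R.x r1 (e r1))⁻¹ * w1⁻¹ * w⁻¹ * w2⁻¹ * z⁻¹ := by
      rw [← hE]; group
    have hclK := A7_actK_closed R h hr0 p
    have mono1 : ∀ k, r0 + 1 ≤ k → V R (A7_act1 R act r0) k ≤ V R (A7_actK R act r0 p) R.lo := by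
      intro k _
      exact A7_V_mono R (fun r hr _ => ⟨⟨hr.1.1, hr.2, Or.inl hr.1⟩, (h.bd r hr.1.1).1⟩)
    have mono2 : V R act (p + 1) ≤ V R (A7_actK R act r0 p) R.lo :=
      A7_V_mono R (fun r hr hk => ⟨⟨hr, by omega, Or.inr (by omega)⟩, (h.bd r hr).1⟩)
    have hmem : R.x p (c * e r1) ∈ V R (A7_actK R act r0 p) R.lo := by
      rw [hxp]
      refine Subgroup.mul_mem _ (Subgroup.mul_mem _ (Subgroup.mul_mem _ (Subgroup.mul_mem _
        (Subgroup.inv_mem _ ?_) (Subgroup.inv_mem _ ?_)) (Subgroup.inv_mem _ ?_))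
        (Subgroup.inv_mem _ ?_)) (Subgroup.inv_mem _ ?_)
      · exact mono1 (r0 + 1) le_rfl (A1_x_mem R hr1.1 hr1.2 _)
      · exact mono1 (r0 + 1) le_rfl hw1m
      · exact mono1 (r0 + 1) le_rfl hw1
      · exact mono1 (r1 + 1) (by omega) hw2m
      · exact mono2 hzm
    have hnot : ¬ A7_actK R act r0 p p := by
      rintro ⟨_, _, hg | hlt⟩
      · exact hg.2 ⟨r1, hr1.1.1.1, hp⟩
      · omega
    have h0 := hA5 hclK (by omega : R.lo ≤ p) hplt.2.2 hnot hmem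
    rcases mul_eq_zero.mp h0 with h1 | h1
    · exact hc h1
    · exact hd1 h1
  · push Not at hcase
    rw [hwe]
    apply A7_lp_mem R _ e
    intro r _
    by_cases her : e r = 0
    · exact Or.inl her
    · right
      have hrr := (hfac r).resolve_left her
      refine ⟨⟨hrr.1.1.1, ?_⟩, hrr.2⟩
      rcases R.tri r0 r hlo hrr.1.2 (hcl1.bd r hrr.1).2 with ho | ⟨d, hd⟩ | ⟨q, hq⟩
      · exact ho
      · exact absurd ⟨d, h.sub r0 d r hr0 hrr.1.1.1 hd, hd⟩ hrr.1.1.2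
      · rw [hcase r her] at hq
        exact absurd hq (by simp)

end Cfsg.Agent.Lib.Helper65.E6I
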